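import Cfsg.Agent.Lib.VanishSingular.Zero
import Cfsg.Agent.Lib.AbConjAll.Rank
import Cfsg.Agent.Lib.HallHigman.PLength
import Cfsg.Agent.Lib.ZJ.RealElements
import Cfsg.Agent.Lib.Jordan.Small

/-!
# Solvable groups with one order of vanishing `p`-singular elements

A Sylow `p`-subgroup is then at most `p` times as large as the `p`-core.
-/

set_option autoImplicit false
set_option linter.unusedSectionVars false
set_option linter.style.haveILetI false

namespace CfsgLib.VanishSingular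

open Cfsg CfsgLib.Char

universe u

/-- The consequence of "one order" that passes to quotients. -/
def Good (p : ℕ) (X : Type u) [Group X] : Prop :=
  ∀ x y : X, Van x → Van y → x ≠ 1 → (∃ k, x ^ p ^ k = 1) → p ∣ orderOf y →
    (∃ k, y ^ p ^ k = 1) ∧ y ≠ x ^ p

variable {p : ℕ} [hp : Fact p.Prime]

theorem dvd_orderOf_of_ne {X : Type u} [Group X] {x : X} (h : ∃ k, x ^ p ^ k = 1) (h1 : x ≠ 1) :
    p ∣ orderOf x := by
  obtain ⟨k, hk⟩ := h
  obtain ⟨i, -, hi⟩ := (Nat.dvd_prime_pow hp.out).mp (orderOf_dvd_of_pow_eq_one hk)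
  rcases i with _ | i
  · exact absurd (orderOf_eq_one_iff.mp (by simpa using hi)) h1
  · exact ⟨p ^ i, by rw [hi, pow_succ']⟩

theorem pow_ne_self {X : Type u} [Group X] [Finite X] {x : X} (h : ∃ k, x ^ p ^ k = 1)
    (h1 : x ≠ 1) : orderOf (x ^ p) ≠ orderOf x := by
  intro e
  have hd := dvd_orderOf_of_ne h h1
  rw [orderOf_pow' x hp.out.ne_zero, Nat.gcd_eq_right hd] at e
  exact (Nat.div_lt_self (orderOf_pos x) hp.out.one_lt).ne e

theorem good_of_same_order {X : Type u} [Group X] [Finite X]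
    (h : ∀ x y : X, Van x → Van y → p ∣ orderOf x → p ∣ orderOf y → orderOf x = orderOf y) :
    Good p X := by
  intro x y hx hy hx1 hxp hyd
  have e := h x y hx hy (dvd_orderOf_of_ne hxp hx1) hyd
  refine ⟨?_, fun hne => pow_ne_self hxp hx1 ?_⟩
  · obtain ⟨k, hk⟩ := hxp
    exact ⟨k, orderOf_dvd_iff_pow_eq_one.mp (e ▸ orderOf_dvd_of_pow_eq_one hk)⟩
  · rw [← hne, e]

theorem good_map {X Q : Type u} [Group X] [Finite X] [Group Q] {f : X →* Q}
    (hf : Function.Surjective f) (h : Good p X) : Good p Q := by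
  intro x y hx hy hx1 hxp hyd
  obtain ⟨g, rfl, hgp⟩ := HallHigman.exists_pElement_lift hf x hxp
  have hg1 : g ≠ 1 := fun e => hx1 (by rw [e, map_one])
  obtain ⟨b, rfl⟩ := hf y
  refine ⟨?_, fun e => ?_⟩
  · obtain ⟨k, hk⟩ := (h g b (van_of_map hf hx) (van_of_map hf hy) hg1 hgp
      (hyd.trans (orderOf_map_dvd f b))).1
    exact ⟨k, by rw [← map_pow, hk, map_one]⟩
  · have e' : f b = f (g ^ p) := by rw [e, map_pow]
    rw [e'] at hy hyd
    exact (h g _ (van_of_map hf hx) (van_of_map hf hy) hg1 hgp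
      (hyd.trans (orderOf_map_dvd f _))).2 rfl

variable {X : Type u} [Group X] [Finite X]

theorem eq_one_of_pow {V : Subgroup X} (hV : (Nat.card V).Coprime p) {v : X} (hv : v ∈ V)
    (h : ∃ k, v ^ p ^ k = 1) : v = 1 := by
  obtain ⟨k, hk⟩ := h
  have h1 : orderOf v ∣ Nat.card V := Subgroup.orderOf_dvd_natCard V hv
  have h2 := Nat.dvd_gcd h1 (orderOf_dvd_of_pow_eq_one hk)
  rw [(hV.pow_right k).gcd_eq_one, Nat.dvd_one, orderOf_eq_one_iff] at h2
  exact h2

/-- Two commuting elements of order `p` cannot act fixed-point-freely. -/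
theorem no_pair (V : Subgroup X) [V.Normal] (hab : ∀ a ∈ V, ∀ b ∈ V, a * b = b * a)
    (hVp : (Nat.card V).Coprime p) {a b : X} (hc : Commute a b) (ha : a ^ p = 1) (hb : b ^ p = 1)
    (hfa : ∀ i : ℕ, ¬ p ∣ i → ∀ v ∈ V, a ^ i * v = v * a ^ i → v = 1)
    (hfb : ∀ j : ℕ, ∀ v ∈ V, a ^ j * b * v = v * (a ^ j * b) → v = 1) : V = ⊥ := by
  classical
  letI : CommGroup V :=
    { (inferInstance : Group V) with mul_comm := fun x y => Subtype.ext (hab x x.2 y y.2) }
  let ψ : X →* MulAut V := MulAut.conjNormal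
  have hψ : ∀ (g : X) (v : V), ((ψ g v : V) : X) = g * v * g⁻¹ := fun g v =>
    MulAut.conjNormal_apply g v
  have norm_one : ∀ g : X, g ^ p = 1 → (∀ v ∈ V, g * v = v * g → v = 1) → ∀ v : V,
      ∏ i : Fin p, ψ (g ^ (i : ℕ)) v = 1 := by
    intro g hg hfix v
    set w := ∏ i : Fin p, ψ (g ^ (i : ℕ)) v with hw
    haveI : NeZero p := ⟨hp.out.ne_zero⟩
    have hfw : ψ g w = w := by
      rw [hw, map_prod]
      refine Fintype.prod_equiv (Equiv.addRight (1 : Fin p)) _ _ fun i => ?_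
      rw [← MulAut.mul_apply, ← map_mul, ← pow_succ']
      congr 2
      rw [Equiv.coe_addRight, Fin.val_add]
      rw [pow_eq_pow_mod ((i : ℕ) + 1) hg, Nat.add_mod ((i : ℕ)) ((1 : Fin p) : ℕ),
        Fin.val_one', Nat.mod_mod, ← Nat.add_mod]
    refine Subtype.ext (hfix w w.2 ?_)
    have := congrArg Subtype.val hfw
    rw [hψ] at this
    exact mul_inv_eq_iff_eq_mul.mp this
  rw [eq_bot_iff]
  intro v hv
  refine Subgroup.mem_bot.mpr (eq_one_of_pow hVp hv ⟨1, ?_⟩)
  set w : V := ⟨v, hv⟩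
  have h1 : ∏ j : Fin p, ∏ i : Fin p, ψ ((a ^ (j : ℕ) * b) ^ (i : ℕ)) w = 1 := by
    refine Finset.prod_eq_one fun j _ => norm_one _ ?_ (hfb j) w
    rw [(hc.pow_left _).mul_pow, hb, ← pow_mul, mul_comm, pow_mul, ha, one_pow, mul_one]
  rw [Finset.prod_comm] at h1
  have h2 : ∀ i : Fin p, (∏ j : Fin p, ψ ((a ^ (j : ℕ) * b) ^ (i : ℕ)) w) =
      if (i : ℕ) = 0 then w ^ p else 1 := by
    intro i
    split_ifs with hi
    · simp [hi]
    · have hpi : ¬ p ∣ (i : ℕ) := Nat.not_dvd_of_pos_of_lt (Nat.pos_of_ne_zero hi) i.2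
      have hai : (a ^ (i : ℕ)) ^ p = 1 := by rw [← pow_mul, mul_comm, pow_mul, ha, one_pow]
      have e : ∀ j : Fin p, ψ ((a ^ (j : ℕ) * b) ^ (i : ℕ)) w =
          ψ (b ^ (i : ℕ)) (ψ ((a ^ (i : ℕ)) ^ (j : ℕ)) w) := fun j => by
        rw [← MulAut.mul_apply, ← map_mul, (hc.pow_left _).mul_pow, ← pow_mul, ← pow_mul,
          mul_comm (i : ℕ) (j : ℕ), ((hc.pow_left _).pow_right _).eq]
      rw [Finset.prod_congr rfl fun j _ => e j, ← map_prod, norm_one _ hai (hfa i hpi), map_one]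
  rw [Finset.prod_congr rfl fun i _ => h2 i] at h1
  rw [Finset.prod_eq_single (⟨0, hp.out.pos⟩ : Fin p)] at h1
  · rw [if_pos rfl] at h1
    simpa using congrArg Subtype.val h1
  · intro i _ hi
    rw [if_neg fun e => hi (Fin.ext e)]
  · simp

/-- A `p`-element fixing the generator-free part of a group of order `p` it normalizes. -/
theorem commute_of_normalize {Y : Type u} [Group Y] {x a : Y} (ha : a ^ p = 1)
    (hx : ∃ k, x ^ p ^ k = 1) {m : ℕ} (h : x * a * x⁻¹ = a ^ m) : x * a = a * x := by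
  by_cases ha1 : a = 1
  · simp [ha1]
  obtain ⟨k, hk⟩ := hx
  have hit : ∀ n : ℕ, x ^ n * a * (x ^ n)⁻¹ = a ^ m ^ n := fun n => by
    induction n with
    | zero => simp
    | succ n ih =>
      calc x ^ (n + 1) * a * (x ^ (n + 1))⁻¹ = x * (x ^ n * a * (x ^ n)⁻¹) * x⁻¹ := by
            rw [pow_succ']; group
        _ = (x * a * x⁻¹) ^ m ^ n := by rw [ih, conj_pow]
        _ = a ^ m ^ (n + 1) := by rw [h, ← pow_mul, pow_succ']
  have e := hit (p ^ k)
  rw [hk] at e
  have hord : orderOf a = p := orderOf_eq_prime ha ha1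
  have e' : a ^ 1 = a ^ m ^ p ^ k := by simpa using e
  rw [pow_eq_pow_iff_modEq, hord, ← ZMod.natCast_eq_natCast_iff, Nat.cast_pow,
    ZMod.pow_card_pow] at e'
  have e2 : a ^ m = a := by
    conv_rhs => rw [← pow_one a]
    rw [pow_eq_pow_iff_modEq, hord, ← ZMod.natCast_eq_natCast_iff]
    simpa using e'.symm
  rw [e2, mul_inv_eq_iff_eq_mul] at h
  exact h

theorem core (hgood : Good p X) (V : Subgroup X) [V.Normal] (hVne : V ≠ ⊥)
    (hab : ∀ a ∈ V, ∀ b ∈ V, a * b = b * a) (hVp : (Nat.card V).Coprime p)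
    (hO : pCore p X = ⊥) (hR : pCore p (X ⧸ V) ≠ ⊥) (P : Sylow p X) :
    Nat.card (P : Subgroup X) ≤ p := by
  classical
  set π := QuotientGroup.mk' V with hπ
  have hπs := QuotientGroup.mk'_surjective V
  have hker : ∀ {x}, π x = 1 → x ∈ V := fun {x} h => (QuotientGroup.eq_one_iff x).mp h
  set R := pCore p (X ⧸ V)
  haveI hRn : R.Normal := Fitting.pCore_normal p
  have hRp : IsPGroup p R := Fitting.pCore_isPGroup p
  set P' := P.mapSurjective hπs with hP'
  have hRP : R ≤ (P : Subgroup X).map π := IsPGroup.le_sylow_of_normal hRp P'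
  have hPel : ∀ x ∈ (P : Subgroup X), ∃ k, x ^ p ^ k = 1 := fun x hx => by
    obtain ⟨k, hk⟩ := P.isPGroup' ⟨x, hx⟩
    exact ⟨k, congrArg Subtype.val hk⟩
  have hinj : ∀ {x y}, x ∈ (P : Subgroup X) → y ∈ (P : Subgroup X) → π x = π y → x = y :=
    fun {x y} hx hy h => by
      have h1 : π (x * y⁻¹) = 1 := by rw [map_mul, map_inv, h, mul_inv_cancel]
      exact mul_inv_eq_one.mp (eq_one_of_pow hVp (hker h1)
        (hPel _ (mul_mem hx (inv_mem hy))))
  have hlift : ∀ r ∈ R, ∃ x ∈ (P : Subgroup X), π x = r := fun r hr => hRP hr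
  let Ab : Subgroup (X ⧸ V) :=
    { carrier := {y | y ∈ R ∧ (∀ r ∈ R, r * y = y * r) ∧ y ^ p = 1}
      one_mem' := ⟨one_mem _, fun _ _ => by simp, one_pow _⟩
      mul_mem' := fun {a b} ha hb => ⟨mul_mem ha.1 hb.1, fun r hr => by
        rw [← mul_assoc, ha.2.1 r hr, mul_assoc, hb.2.1 r hr, mul_assoc],
        by rw [Commute.mul_pow (hb.2.1 a ha.1), ha.2.2, hb.2.2, mul_one]⟩
      inv_mem' := fun {a} ha => ⟨inv_mem ha.1, fun r hr =>
        ((show Commute r a from ha.2.1 r hr).inv_right).eq, by rw [inv_pow, ha.2.2, inv_one]⟩ }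
  have hAbn : Ab.Normal := ⟨fun y hy g => by
    refine ⟨hRn.conj_mem y hy.1 g, fun r hr => ?_, by rw [conj_pow, hy.2.2, mul_one,
      mul_inv_cancel]⟩
    have h := hy.2.1 _ (show g⁻¹ * r * g ∈ R by simpa using hRn.conj_mem r hr g⁻¹)
    calc r * (g * y * g⁻¹) = g * ((g⁻¹ * r * g) * y) * g⁻¹ := by group
      _ = g * (y * (g⁻¹ * r * g)) * g⁻¹ := by rw [h]
      _ = g * y * g⁻¹ * r := by group⟩
  haveI := hAbn
  let A₀ : Subgroup X := (P : Subgroup X) ⊓ Ab.comap π
  have hA₀ : ∀ a ∈ A₀, a ∈ (P : Subgroup X) ∧ π a ∈ Ab := fun a ha => ha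
  have hA₀c : ∀ a ∈ A₀, ∀ b ∈ A₀, a * b = b * a := fun a ha b hb =>
    hinj (mul_mem ha.1 hb.1) (mul_mem hb.1 ha.1)
      (by rw [map_mul, map_mul]; exact (hA₀ b hb).2.2.1 _ (hA₀ a ha).2.1)
  have hA₀e : ∀ a ∈ A₀, a ^ p = 1 := fun a ha =>
    hinj (pow_mem ha.1 _) (one_mem _) (by rw [map_pow, map_one]; exact (hA₀ a ha).2.2.2)
  have hAlift : ∀ y ∈ Ab, ∃ a ∈ A₀, π a = y := fun y hy => by
    obtain ⟨a, ha, rfl⟩ := hlift y hy.1
    exact ⟨a, ⟨ha, hy⟩, rfl⟩
  -- no element of `A₀` centralizes `V`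
  have hfaith : ∀ a ∈ A₀, (∀ v ∈ V, a * v = v * a) → a = 1 := by
    let K : Subgroup X := A₀ ⊓ Subgroup.centralizer (V : Set X)
    have hKn : K.Normal := ⟨fun a ha g => by
      have hc : g * a * g⁻¹ ∈ Subgroup.centralizer (V : Set X) :=
        (inferInstance : (Subgroup.centralizer (V : Set X)).Normal).conj_mem a ha.2 g
      have hcV : ∀ v ∈ V, v * (g * a * g⁻¹) = g * a * g⁻¹ * v :=
        Subgroup.mem_centralizer_iff.mp hc
      obtain ⟨a', ha', e⟩ := hAlift (π (g * a * g⁻¹)) (by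
        rw [map_mul, map_mul, map_inv]; exact hAbn.conj_mem _ ha.1.2 _)
      have hv : a'⁻¹ * (g * a * g⁻¹) ∈ V := hker (by
        rw [map_mul, map_inv, e, inv_mul_cancel])
      set v := a'⁻¹ * (g * a * g⁻¹) with hv'
      have e1 : g * a * g⁻¹ = a' * v := by rw [hv']; group
      have hcomm : Commute a' v := by
        have h0 := hcV v hv
        rw [e1] at h0
        have h3 : v * a' = a' * v := by
          have h4 : v * (a' * v) = a' * v * v := h0
          rw [← mul_assoc] at h4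
          exact mul_right_cancel h4
        exact h3.symm
      have hp1 : (g * a * g⁻¹) ^ p = 1 := by
        rw [conj_pow, hA₀e a ha.1, mul_one, mul_inv_cancel]
      rw [e1, hcomm.mul_pow, hA₀e a' ha', one_mul] at hp1
      have hv1 : v = 1 := eq_one_of_pow hVp hv ⟨1, by rw [pow_one, hp1]⟩
      exact ⟨by rw [e1, hv1, mul_one]; exact ha', hc⟩⟩
    have hKp : IsPGroup p K := (P.isPGroup'.to_le (inf_le_left.trans inf_le_left))
    have hK := Fitting.le_pCore hKn hKp
    rw [hO, le_bot_iff] at hK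
    intro a ha h
    have : a ∈ K := ⟨ha, Subgroup.mem_centralizer_iff.mpr fun v hv => (h v hv).symm⟩
    rwa [hK, Subgroup.mem_bot] at this
  -- a regular character of `V`
  letI : CommGroup V :=
    { (inferInstance : Group V) with mul_comm := fun x y => Subtype.ext (hab x x.2 y y.2) }
  letI : CommGroup A₀ :=
    { (inferInstance : Group A₀) with
      mul_comm := fun x y => Subtype.ext (hA₀c x x.2 y y.2) }
  haveI : Finite (V →* ℂˣ) := Nat.finite_of_card_ne_zero (by
    rw [CfsgLib.AbelianIdem.card_hom (Nat.cast_ne_zero.mpr Nat.card_pos.ne')]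
    exact Nat.card_pos.ne')
  let f : A₀ →* MulAut (V →* ℂˣ) :=
    { toFun := fun a =>
        { toFun := fun φ => φ.comp (MulAut.conjNormal (a : X)⁻¹ : MulAut V).toMonoidHom
          invFun := fun φ => φ.comp (MulAut.conjNormal (a : X) : MulAut V).toMonoidHom
          left_inv := fun φ => by
            ext v
            simp [MulAut.conjNormal_apply, mul_assoc]
          right_inv := fun φ => by
            ext v
            simp [MulAut.conjNormal_apply, mul_assoc]
          map_mul' := fun φ φ' => rfl }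
      map_one' := by
        ext φ v
        simp
      map_mul' := fun a b => by
        ext φ v
        simp [mul_assoc] }
  obtain ⟨φ, hφ⟩ := exists_regular (A := A₀) (D := V →* ℂˣ) (p := p) f (fun a => Subtype.ext (hA₀e a a.2))
    (fun φ h => by
      ext v
      have h1 : φ v ^ p = 1 := by simpa using congrArg (fun ψ : V →* ℂˣ => ψ v) h
      have h2 : φ v ^ Nat.card V = 1 := by rw [← map_pow, pow_card_eq_one', map_one]
      have h3 := pow_gcd_eq_one.mpr ⟨h2, h1⟩
      rw [hVp.gcd_eq_one, pow_one] at h3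
      rw [h3, MonoidHom.one_apply])
    (fun a ha => by
      obtain ⟨v, hv⟩ : ∃ v : V, (a : X) * v ≠ v * a := by
        by_contra! hall
        exact ha (Subtype.ext (hfaith a a.2 fun v hv => hall ⟨v, hv⟩))
      have hne : MulAut.conjNormal (a : X)⁻¹ v * v⁻¹ ≠ 1 := fun e => hv (by
        have e' := congrArg Subtype.val (mul_inv_eq_one.mp e)
        rw [MulAut.conjNormal_apply, inv_inv] at e'
        nth_rw 1 [← e']
        group)
      obtain ⟨ψ, hψ⟩ := CommGroup.exists_apply_ne_one_of_hasEnoughRootsOfUnity V ℂ hne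
      refine ⟨ψ, fun e => hψ ?_⟩
      have e' : ψ (MulAut.conjNormal (a : X)⁻¹ v) = ψ v := DFunLike.congr_fun e v
      rw [map_mul, e', map_inv, mul_inv_cancel])
  set θ : V → ℂ := fun v => (φ v : ℂ)
  have hθ : IsIrrCharacter V θ := isIrrCharacter_monoidHom φ
  have hkey : ∀ (g : X) (k : ℕ), π g ^ k ∈ Ab → π g ^ k ≠ 1 → Van g := by
    intro g k hk hk1
    refine van_of_inertia V hθ g fun x hx => ?_
    have h1 : π ((x⁻¹ * g * x) ^ k) = (π x)⁻¹ * π g ^ k * π x := by
      have h0 : (x⁻¹ * g * x) ^ k = x⁻¹ * g ^ k * x := by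
        have h00 := conj_pow (a := x⁻¹) (b := g) (i := k)
        rwa [inv_inv] at h00
      rw [h0, map_mul, map_mul, map_inv, map_pow]
    set h := (x⁻¹ * g * x) ^ k
    obtain ⟨a, ha, e⟩ := hAlift (π h) (by
      rw [h1]; simpa using hAbn.conj_mem _ hk (π x)⁻¹)
    have hv : h * a⁻¹ ∈ V := hker (by rw [map_mul, map_inv, e, mul_inv_cancel])
    have haT : a⁻¹ ∈ inertia V θ := by
      refine inv_mem ?_
      rw [show a = (h * a⁻¹)⁻¹ * h by group]
      exact mul_mem (inv_mem (le_inertia V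
        (isClassFunction_of_isCharacter (isCharacter_of_isIrr hθ)) hv)) (pow_mem hx k)
    have hfix : f ⟨a, ha⟩ φ = φ := by
      ext v
      exact (mem_inertia_iff V).mp haT v
    have ha1 : a = 1 := congrArg Subtype.val (hφ _ hfix)
    rw [ha1, map_one, h1] at e
    exact hk1 (by simpa [mul_assoc] using congrArg (fun z => π x * z * (π x)⁻¹) e.symm)
  -- one element of order `p`
  obtain ⟨yA, hyA, hyA1⟩ : ∃ y ∈ Ab, y ≠ 1 := by
    haveI : Nontrivial R := (Subgroup.nontrivial_iff_ne_bot R).mpr hR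
    haveI := hRp.center_nontrivial
    obtain ⟨z, hz, hzc⟩ : ∃ z : R, orderOf z = p ∧ z ∈ Subgroup.center R := by
      have hd : p ∣ Nat.card (Subgroup.center R) := by
        obtain ⟨n, hn0, hn⟩ := (IsPGroup.nontrivial_iff_card (hRp.to_subgroup _)).mp
          (inferInstance : Nontrivial (Subgroup.center R))
        exact hn ▸ dvd_pow_self p hn0.ne'
      obtain ⟨z, hz⟩ := exists_prime_orderOf_dvd_card' p hd
      exact ⟨z, by rw [Subgroup.orderOf_coe]; exact hz, z.2⟩
    refine ⟨z, ⟨z.2, fun r hr => congrArg Subtype.val (Subgroup.mem_center_iff.mp hzc ⟨r, hr⟩),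
      ?_⟩, fun e => ?_⟩
    · rw [← hz, ← SubmonoidClass.coe_pow, pow_orderOf_eq_one, OneMemClass.coe_one]
    · rw [OneMemClass.coe_eq_one.mp e, orderOf_one] at hz
      exact hp.out.ne_one hz.symm
  obtain ⟨a, ha, rfl⟩ := hAlift yA hyA
  have hap : ∃ k, a ^ p ^ k = 1 := hPel a ha.1
  have ha1 : a ≠ 1 := fun e => hyA1 (by rw [e, map_one])
  have haV : Van a := hkey a 1 (by rw [pow_one]; exact hyA) (by rwa [pow_one])
  -- centralizing elements give vanishing elements of mixed order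
  have hfpf : ∀ b : X, (∃ k, b ^ p ^ k = 1) → π b ≠ 1 → (∀ g, π g = π b → Van g) →
      ∀ v ∈ V, b * v = v * b → v = 1 := by
    intro b hbp hb1 hvan v hv hc
    have e : π (b * v) = π b := by
      rw [map_mul, show π v = 1 from (QuotientGroup.eq_one_iff v).mpr hv, mul_one]
    obtain ⟨k, hk⟩ := hbp
    have hd : p ∣ orderOf (π b) := dvd_orderOf_of_ne ⟨k, by rw [← map_pow, hk, map_one]⟩ hb1
    obtain ⟨l, hl⟩ := (hgood a (b * v) haV (hvan _ e) ha1 hap
      (hd.trans (e ▸ orderOf_map_dvd π (b * v)))).1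
    refine eq_one_of_pow hVp hv ⟨k + l, ?_⟩
    rw [Commute.mul_pow hc] at hl
    have h1 : (b ^ p ^ l * v ^ p ^ l) ^ p ^ k = 1 := by rw [hl, one_pow]
    rw [((Commute.pow_pow (show Commute b v from hc) _ _)).mul_pow, ← pow_mul, ← pow_mul,
      mul_comm (p ^ l), pow_mul, hk, one_pow, one_mul, ← pow_add] at h1
    rwa [add_comm] at h1 ⊢
  have hAfpf : ∀ b ∈ A₀, b ≠ 1 → ∀ v ∈ V, b * v = v * b → v = 1 := fun b hb hb1 =>
    hfpf b (hPel b hb.1) (fun e => hb1 (hinj hb.1 (one_mem _) (by rw [e, map_one])))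
      fun g hg => hkey g 1 (by rw [pow_one, hg]; exact hb.2)
        (by rw [pow_one, hg]; exact fun e => hb1 (hinj hb.1 (one_mem _) (by rw [e, map_one])))
  have hai : ∀ i : ℕ, ¬ p ∣ i → a ^ i ≠ 1 := fun i hi e => by
    have := orderOf_dvd_of_pow_eq_one e
    rw [orderOf_eq_prime (hA₀e a ha) ha1] at this
    exact hi this
  have hfa : ∀ i : ℕ, ¬ p ∣ i → ∀ v ∈ V, a ^ i * v = v * a ^ i → v = 1 := fun i hi =>
    hAfpf _ (pow_mem ha i) (hai i hi)
  have hAb : ∀ y ∈ Ab, ∃ n : ℕ, π a ^ n = y := by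
    intro y hy
    by_contra! hy'
    obtain ⟨b, hb, rfl⟩ := hAlift y hy
    refine hVne (no_pair V hab hVp (hA₀c a ha b hb) (hA₀e a ha) (hA₀e b hb) hfa
      fun j => hAfpf _ (mul_mem (pow_mem ha j) hb) fun e => ?_)
    refine hy' (j * (p - 1)) ?_
    have e' : π a ^ j * π b = 1 := by rw [← map_pow, ← map_mul, e, map_one]
    have e2 : π b = (π a ^ j)⁻¹ := eq_inv_of_mul_eq_one_right e'
    rw [e2, pow_mul, eq_inv_iff_mul_eq_one, ← pow_succ,
      Nat.sub_add_cancel hp.out.one_le, ← pow_mul, mul_comm, pow_mul, hyA.2.2, one_pow]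
  set C := Subgroup.centralizer (Ab : Set (X ⧸ V))
  have hCp : IsPGroup p C := by
    rw [IsPGroup.iff_card]
    refine ⟨_, Nat.eq_prime_pow_of_unique_prime_dvd Nat.card_pos.ne'
      fun {q} hq hqd => ?_⟩
    by_contra hne
    haveI := Fact.mk hq
    obtain ⟨c, hc⟩ := exists_prime_orderOf_dvd_card' q hqd
    have hcc : Commute (π a) c := Subgroup.mem_centralizer_iff.mp c.2 _ hyA
    have hcq : (c : X ⧸ V) ^ q = 1 := by
      rw [← hc, ← SubmonoidClass.coe_pow, pow_orderOf_eq_one, OneMemClass.coe_one]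
    obtain ⟨g, hg⟩ := hπs (π a * c)
    have hgq : π g ^ q = π a ^ q := by rw [hg, hcc.mul_pow, hcq, mul_one]
    have hq1 : π a ^ q ≠ 1 := fun e => by
      have h := orderOf_dvd_of_pow_eq_one e
      rw [orderOf_eq_prime hyA.2.2 hyA1] at h
      exact hne ((Nat.prime_dvd_prime_iff_eq hp.out hq).mp h).symm
    have hgV : Van g := hkey g q (hgq ▸ pow_mem hyA q) (hgq ▸ hq1)
    have hd : p ∣ orderOf (π g) := by
      have h := orderOf_pow_dvd (x := π g) q
      rw [hgq] at h
      exact (dvd_orderOf_of_ne ⟨1, by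
        rw [pow_one, ← pow_mul, mul_comm, pow_mul, hyA.2.2, one_pow]⟩ hq1).trans h
    obtain ⟨l, hl⟩ := (hgood a g haV hgV ha1 hap (hd.trans (orderOf_map_dvd π g))).1
    have h1 : (π g) ^ p ^ (l + 1) = 1 := by
      rw [pow_succ, pow_mul, ← map_pow, hl, map_one, one_pow]
    rw [hg, hcc.mul_pow, pow_succ' p l, pow_mul (π a), hyA.2.2, one_pow, one_mul,
      ← pow_succ'] at h1
    have h2 := orderOf_dvd_of_pow_eq_one h1
    rw [Subgroup.orderOf_coe, hc] at h2
    exact hne ((Nat.prime_dvd_prime_iff_eq hq hp.out).mp (hq.dvd_of_dvd_pow h2))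
  have hCn : C.Normal := inferInstance
  have hPR : (P : Subgroup X).map π = R := by
    refine le_antisymm ?_ hRP
    rintro _ ⟨x, hx, rfl⟩
    refine Fitting.le_pCore hCn hCp (Subgroup.mem_centralizer_iff.mpr fun y hy => ?_)
    obtain ⟨n, rfl⟩ := hAb y hy
    obtain ⟨m, hm⟩ := hAb _ (hAbn.conj_mem _ hyA (π x))
    obtain ⟨k, hk⟩ := hPel x hx
    have hc : Commute (π x) (π a) :=
      commute_of_normalize hyA.2.2 ⟨k, by rw [← map_pow, hk, map_one]⟩ hm.symm
    exact ((hc.pow_right n).symm).eq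
  have hsquare : ∀ g ∈ (P : Subgroup X), Van g → π g ^ p ∈ Ab → π g ^ p = 1 := by
    intro g hg hgV hgp
    by_contra h1
    have hg1 : g ≠ 1 := fun e => h1 (by rw [e, map_one, one_pow])
    refine (hgood g (g ^ p) hgV (hkey _ 1 ?_ ?_) hg1 (hPel g hg) ?_).2 rfl
    · rw [pow_one, map_pow]; exact hgp
    · rw [pow_one, map_pow]; exact h1
    · exact dvd_orderOf_of_ne (hPel _ (pow_mem hg p)) fun e => h1 (by rw [← map_pow, e, map_one])
  have hcent : ∀ y ∈ R, (∀ r ∈ R, r * y = y * r) → y ∈ Ab := by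
    have key : ∀ (k : ℕ) (y : X ⧸ V), y ∈ R → (∀ r ∈ R, r * y = y * r) → y ^ p ^ k = 1 →
        y ∈ Ab := by
      intro k
      induction k with
      | zero => intro y hy hc h; exact ⟨hy, hc, by rw [pow_zero, pow_one] at h; rw [h, one_pow]⟩
      | succ k ih =>
        intro y hy hc h
        have h' := ih (y ^ p) (pow_mem hy p)
          (fun r hr => ((show Commute r y from hc r hr).pow_right p).eq)
          (by rw [← pow_mul, ← pow_succ']; exact h)
        refine ⟨hy, hc, ?_⟩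
        by_contra h1
        obtain ⟨g, hg, rfl⟩ := hlift y hy
        exact h1 (hsquare g hg (hkey g p h' h1) h')
    intro y hy hc
    obtain ⟨k, hk⟩ := hRp ⟨y, hy⟩
    exact key k y hy hc (congrArg Subtype.val hk)
  have hyA' : π a ∈ Ab := hyA
  have hle : R ≤ Subgroup.zpowers (π a) := by
    by_contra hnot
    haveI : Nontrivial (↥R ⧸ Subgroup.center R) := by
      refine (QuotientGroup.nontrivial_iff (N := Subgroup.center R)).mpr fun e => hnot ?_
      intro y hy
      obtain ⟨n, hn⟩ := hAb y (hcent y hy fun r hr => congrArg Subtype.val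
        (Subgroup.mem_center_iff.mp (e ▸ Subgroup.mem_top (⟨y, hy⟩ : R)) ⟨r, hr⟩))
      exact hn ▸ pow_mem (Subgroup.mem_zpowers _) n
    haveI := (hRp.to_quotient (Subgroup.center R)).center_nontrivial
    obtain ⟨⟨zq, hzq⟩, hzq1⟩ := exists_ne (1 : Subgroup.center (↥R ⧸ Subgroup.center R))
    obtain ⟨⟨y, hy⟩, rfl⟩ := QuotientGroup.mk_surjective zq
    have hyc : ∀ r ∈ R, y⁻¹ * (r * y * r⁻¹) ∈ Ab := by
      intro r hr
      have e := Subgroup.mem_center_iff.mp hzq (QuotientGroup.mk (⟨r, hr⟩ : R))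
      rw [← QuotientGroup.mk_mul, ← QuotientGroup.mk_mul, QuotientGroup.eq] at e
      refine hcent _ (mul_mem (inv_mem hy) (mul_mem (mul_mem hr hy) (inv_mem hr))) fun s hs => ?_
      have hz : (⟨y, hy⟩ * ⟨r, hr⟩ : R)⁻¹ * (⟨r, hr⟩ * ⟨y, hy⟩) ∈ Subgroup.center R := by
        have := inv_mem e
        rwa [mul_inv_rev, inv_inv] at this
      set w := (⟨y, hy⟩ * ⟨r, hr⟩ : R)⁻¹ * (⟨r, hr⟩ * ⟨y, hy⟩)
      have hw : (y⁻¹ * (r * y * r⁻¹)) = r * (w : X ⧸ V) * r⁻¹ := by
        show _ = r * ((y * r)⁻¹ * (r * y)) * r⁻¹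
        group
      have hw2 : r * (w : X ⧸ V) * r⁻¹ = w := by
        rw [congrArg Subtype.val (Subgroup.mem_center_iff.mp hz ⟨r, hr⟩) |> fun h =>
          (show r * (w : X ⧸ V) = (w : X ⧸ V) * r from h)]
        group
      rw [hw, hw2]
      exact congrArg Subtype.val (Subgroup.mem_center_iff.mp hz ⟨s, hs⟩)
    have hyA : y ∉ Ab := fun hin => hzq1 (Subtype.ext ((QuotientGroup.eq_one_iff _).mpr
      (Subgroup.mem_center_iff.mpr fun s => Subtype.ext (hin.2.1 s s.2))))
    have prop : ∀ y ∈ R, y ∉ Ab → (∀ r ∈ R, y⁻¹ * (r * y * r⁻¹) ∈ Ab) →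
        Van y ∧ y ^ p = 1 := by
      intro y hy hyA hyc
      obtain ⟨r, hr, hr1⟩ : ∃ r ∈ R, y⁻¹ * (r * y * r⁻¹) ≠ 1 := by
        by_contra! hall
        exact hyA (hcent y hy fun r hr =>
          mul_inv_eq_iff_eq_mul.mp (inv_mul_eq_one.mp (hall r hr)).symm)
      set c := y⁻¹ * (r * y * r⁻¹) with hc
      have hcA : c ∈ Ab := hyc r hr
      have hrc : r * c = c * r := hcA.2.1 r hr
      have hit : ∀ n : ℕ, r ^ n * y * (r ^ n)⁻¹ = y * c ^ n := fun n => by
        induction n with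
        | zero => simp
        | succ n ih =>
          calc r ^ (n + 1) * y * (r ^ (n + 1))⁻¹ = r * (r ^ n * y * (r ^ n)⁻¹) * r⁻¹ := by
                rw [pow_succ']; group
            _ = (r * y * r⁻¹) * (r * c ^ n * r⁻¹) := by rw [ih]; group
            _ = (y * c) * c ^ n := by
                rw [(Commute.pow_right hrc n).eq, mul_inv_cancel_right,
                  show r * y * r⁻¹ = y * c by rw [hc]; group]
            _ = y * c ^ (n + 1) := by rw [mul_assoc, ← pow_succ']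
      obtain ⟨i, hi⟩ := hAb c hcA
      have hAc : ∀ z ∈ Ab, ∃ n : ℕ, c ^ n = z := by
        intro z hz
        obtain ⟨n, rfl⟩ := hAb z hz
        have hco : ¬ p ∣ i := fun ⟨w, hw⟩ => hr1 (by
          rw [← hi, hw, pow_mul, hyA'.2.2, one_pow])
        obtain ⟨u, hu⟩ := exists_pow_eq_self_of_coprime (x := π a) (n := i)
          (by rw [orderOf_eq_prime hyA'.2.2 hyA1]
              exact (hp.out.coprime_iff_not_dvd.mpr hco).symm)
        exact ⟨u * n, by rw [pow_mul, ← hi, hu]⟩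
      refine ⟨van_of_coset Ab (fun e => hyA1 (by
        have := hyA'; rw [e, Subgroup.mem_bot] at this; exact this)) y fun z hz => ?_, ?_⟩
      · obtain ⟨n, rfl⟩ := hAc z hz
        exact ⟨r ^ n, hit n⟩
      have hyp : y ^ p ∈ Ab := hcent _ (pow_mem hy p) fun s hs => by
        have hs' : Commute s (y⁻¹ * (s * y * s⁻¹)) := (hyc s hs).2.1 s hs
        have hys : Commute y (y⁻¹ * (s * y * s⁻¹)) := (hyc s hs).2.1 y hy
        refine mul_inv_eq_iff_eq_mul.mp ?_
        rw [← conj_pow, show s * y * s⁻¹ = y * (y⁻¹ * (s * y * s⁻¹)) by group, hys.mul_pow,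
          (hyc s hs).2.2, mul_one]
      by_contra hyp1
      obtain ⟨g, hg, rfl⟩ := hlift y hy
      exact hyp1 (hsquare g hg (hkey g p hyp hyp1) hyp)
    obtain ⟨b, hb, rfl⟩ := hlift y hy
    obtain ⟨-, hbp'⟩ := prop _ hy hyA hyc
    have hbp : b ^ p = 1 := hinj (pow_mem hb p) (one_mem _) (by rw [map_pow, map_one, hbp'])
    have hab' : Commute a b := hinj (mul_mem ha.1 hb) (mul_mem hb ha.1)
      (by rw [map_mul, map_mul]; exact (hyA'.2.1 _ hy).symm)
    refine hVne (no_pair V hab hVp hab' (hA₀e a ha) hbp hfa fun j => ?_)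
    have hjR : π (a ^ j * b) ∈ R := by
      rw [map_mul, map_pow]; exact mul_mem (pow_mem hyA'.1 j) hy
    have hjA : π (a ^ j * b) ∉ Ab := fun h => hyA (by
      rw [map_mul, map_pow] at h
      exact (Ab.mul_mem_cancel_left (pow_mem hyA' j)).mp h)
    have hjc : ∀ r ∈ R, (π (a ^ j * b))⁻¹ * (r * π (a ^ j * b) * r⁻¹) ∈ Ab := fun r hr => by
      have hcj : Commute r (π a ^ j) := Commute.pow_right (hyA'.2.1 r hr) j
      rw [map_mul, map_pow, ← mul_assoc r, hcj.eq, mul_inv_rev]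
      convert hyc r hr using 1
      group
    refine hfpf _ (hPel _ (mul_mem (pow_mem ha.1 j) hb))
      (fun e => hjA (by rw [e]; exact one_mem _)) fun g hg => ?_
    refine van_of_map hπs ?_
    rw [hg]
    exact (prop _ hjR hjA hjc).1
  have h1 : Nat.card (P : Subgroup X) ≤ Nat.card R := by
    rw [← hPR]
    exact Nat.card_le_card_of_injective
      (fun x => ⟨π (x : X), Subgroup.mem_map_of_mem π x.2⟩)
      (fun x y h => Subtype.ext (hinj x.2 y.2 (congrArg Subtype.val h)))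
  refine h1.trans ((Subgroup.card_le_of_le hle).trans (le_of_eq ?_))
  rw [Nat.card_zpowers, orderOf_eq_prime hyA.2.2 hyA1]

theorem card_sylow_le_aux : ∀ (n : ℕ) (X : Type u) [Group X] [Finite X], Nat.card X = n →
    Group.IsSolvable X → Good p X → ∀ P : Sylow p X,
      Nat.card (P : Subgroup X) ≤ p * Nat.card (pCore p X) := by
  intro n
  induction n using Nat.strong_induction_on with
  | _ n ih => ?_
  intro X _ _ hn hs hgood P
  have hlt : ∀ (N : Subgroup X) [N.Normal], N ≠ ⊥ → Nat.card (X ⧸ N) < n := fun N _ hN => by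
    rw [← hn, N.card_eq_card_quotient_mul_card_subgroup]
    exact lt_mul_right Nat.card_pos ((Subgroup.one_lt_card_iff_ne_bot N).mpr hN)
  have hquo : ∀ (N : Subgroup X) [N.Normal], N ≠ ⊥ → Nat.card ((P : Subgroup X).map
      (QuotientGroup.mk' N)) ≤ p * Nat.card (pCore p (X ⧸ N)) := fun N _ hN => by
    haveI := hs
    exact ih _ (hlt N hN) (X ⧸ N) rfl (Group.isSolvable_of_surjective
      (QuotientGroup.mk'_surjective N)) (good_map (QuotientGroup.mk'_surjective N) hgood)
      (P.mapSurjective (QuotientGroup.mk'_surjective N))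
  have hmap : ∀ (N : Subgroup X) [N.Normal], Nat.card (P : Subgroup X) =
      Nat.card ((P : Subgroup X).map (QuotientGroup.mk' N)) *
        Nat.card ((P : Subgroup X) ⊓ N : Subgroup X) := fun N _ => by
    have h := Subgroup.card_eq_card_quotient_mul_card_subgroup
      (((QuotientGroup.mk' N).comp (P : Subgroup X).subtype).ker)
    rw [Nat.card_congr (QuotientGroup.quotientKerEquivRange _).toEquiv,
      MonoidHom.range_comp, Subgroup.range_subtype] at h
    rw [h]
    congr 1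
    rw [← MonoidHom.comap_ker, QuotientGroup.ker_mk', inf_comm, ← Subgroup.subgroupOf_map_subtype,
      Subgroup.card_map_of_injective (P : Subgroup X).subtype_injective]
    rfl
  haveI hOn := Fitting.pCore_normal (G := X) p
  by_cases hO : pCore p X = ⊥
  swap
  · have h := hquo _ hO
    rw [le_bot_iff.mp ZJ.pCore_quotient_pCore_le_bot, Subgroup.card_bot, mul_one] at h
    rw [hmap (pCore p X), inf_eq_right.mpr (IsPGroup.le_sylow_of_normal
      (Fitting.pCore_isPGroup p) P)]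
    exact Nat.mul_le_mul_right _ h
  rw [hO, Subgroup.card_bot, mul_one]
  rcases subsingleton_or_nontrivial X with hsub | hnt
  · rw [Nat.card_unique]; exact hp.out.one_le
  obtain ⟨V, hVn, -, hVne, hVmin⟩ := CfsgLib.AbConjAll.exists_minimal_normal
    (M := (⊤ : Subgroup X)) inferInstance top_ne_bot
  haveI := hVn
  haveI := hs
  have hab : ∀ a ∈ V, ∀ b ∈ V, a * b = b * a := by
    rcases hVmin ⁅V, V⁆ inferInstance (Subgroup.commutator_le_left V V) with h | h
    · intro a ha b hb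
      exact commutatorElement_eq_one_iff_mul_comm.mp (Subgroup.mem_bot.mp
        (h ▸ Subgroup.commutator_mem_commutator ha hb))
    · exfalso
      obtain ⟨k, hk⟩ := hs.solvable
      have hle : ∀ i, V ≤ derivedSeries X i := fun i => by
        induction i with
        | zero => exact le_top
        | succ i ihi => rw [← h, derivedSeries_succ]; exact Subgroup.commutator_mono ihi ihi
      exact hVne (le_bot_iff.mp (hk ▸ hle k))
  have hVp : (Nat.card V).Coprime p := by
    refine (hp.out.coprime_iff_not_dvd.mpr fun hd => ?_).symm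
    obtain ⟨v, hv⟩ := exists_prime_orderOf_dvd_card' p hd
    let K : Subgroup X :=
      { carrier := {x | x ∈ V ∧ x ^ p = 1}
        one_mem' := ⟨one_mem _, one_pow _⟩
        mul_mem' := fun {a b} ha hb => ⟨mul_mem ha.1 hb.1,
          by rw [Commute.mul_pow (hab a ha.1 b hb.1), ha.2, hb.2, mul_one]⟩
        inv_mem' := fun {a} ha => ⟨inv_mem ha.1, by rw [inv_pow, ha.2, inv_one]⟩ }
    have hKn : K.Normal := ⟨fun x hx g => ⟨hVn.conj_mem x hx.1 g,
      by rw [conj_pow, hx.2, mul_one, mul_inv_cancel]⟩⟩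
    have hK := Fitting.le_pCore hKn (p := p) fun x => ⟨1, Subtype.ext (by simpa using x.2.2)⟩
    rw [hO, le_bot_iff] at hK
    have hvK : (v : X) ∈ K := ⟨v.2, by
      rw [← SubmonoidClass.coe_pow, ← hv, pow_orderOf_eq_one, OneMemClass.coe_one]⟩
    rw [hK, Subgroup.mem_bot, OneMemClass.coe_eq_one] at hvK
    rw [hvK, orderOf_one] at hv
    exact hp.out.ne_one hv.symm
  by_cases hR : pCore p (X ⧸ V) = ⊥
  · have hint : (P : Subgroup X) ⊓ V = ⊥ := eq_bot_iff.mpr fun x hx => by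
      obtain ⟨k, hk⟩ := P.isPGroup' ⟨x, hx.1⟩
      exact Subgroup.mem_bot.mpr (eq_one_of_pow hVp hx.2 ⟨k, congrArg Subtype.val hk⟩)
    have h := hquo V hVne
    rw [hR, Subgroup.card_bot, mul_one] at h
    rwa [hmap V, hint, Subgroup.card_bot, mul_one]
  · exact core hgood V hVne hab hVp hO hR P

/-- **The bound.** -/
theorem card_sylow_le {X : Type u} [Group X] [Finite X] [hs : Group.IsSolvable X]
    (h : ∀ x y : X, Van x → Van y → p ∣ orderOf x → p ∣ orderOf y → orderOf x = orderOf y)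
    (P : Sylow p X) : Nat.card (P : Subgroup X) ≤ p * Nat.card (pCore p X) :=
  card_sylow_le_aux _ X rfl hs (good_of_same_order h) P

end CfsgLib.VanishSingular
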