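import Cfsg.Agent.Lib.Camina.Basic
import Cfsg.Agent.Lib.Char.Clifford
import Cfsg.Agent.Lib.Char.Kernel

/-!
# Elements at which some irreducible character vanishes

Two ways of producing a zero: a coset of a normal subgroup lying in one class, and an
element none of whose conjugates fixes a character of a normal subgroup.  A regular orbit
of an abelian group of exponent `p` in a coprime action is constructed as well.
-/

set_option autoImplicit false
set_option linter.unusedSectionVars false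
set_option linter.style.haveILetI false

namespace CfsgLib.VanishSingular

open Cfsg CfsgLib.Char
open scoped ComplexConjugate CfsgLib.Char

universe u

/-- Some irreducible character is zero at the element. -/
def Van {G : Type u} [Group G] (g : G) : Prop :=
  ∃ χ : IrrCharacter G, (χ : G → ℂ) g = 0

theorem van_of_map {G Q : Type u} [Group G] [Group Q] {f : G →* Q}
    (hf : Function.Surjective f) {g : G} (h : Van (f g)) : Van g := by
  obtain ⟨χ, hχ⟩ := h
  exact ⟨⟨fun x => (χ : Q → ℂ) (f x), isIrrCharacter_comp hf χ.2⟩, hχ⟩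

variable {G : Type u} [Group G] [Finite G]

theorem van_of_coset (Z : Subgroup G) [Z.Normal] (hZ : Z ≠ ⊥) (y : G)
    (h : ∀ z ∈ Z, ∃ x : G, x * y * x⁻¹ = y * z) : Van y := by
  classical
  haveI := Fintype.ofFinite G
  haveI := Fintype.ofFinite Z
  obtain ⟨z, hz, hz1⟩ := (Subgroup.bot_or_exists_ne_one Z).resolve_left hZ
  obtain ⟨χ, hχ⟩ : ∃ χ : IrrCharacter G, (χ : G → ℂ) z ≠ (χ : G → ℂ) 1 := by
    by_contra! hall
    exact hz1 (eq_one_of_forall_irr hall)
  have h0 : classInner (fun n : Z => (χ : G → ℂ) n) (fun _ => (1 : ℂ)) = 0 := by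
    by_contra hne
    have hinv : ∀ g, conjBy Z (fun _ => (1 : ℂ)) g = fun _ => 1 := fun g => rfl
    have e := clifford_invariant Z χ.2 isIrrCharacter_one hinv hne
    exact hχ ((congrFun e ⟨z, hz⟩).trans (congrFun e 1).symm)
  refine ⟨χ, ?_⟩
  obtain ⟨d, ρ, hρ⟩ := isCharacter_of_isIrr χ.2
  have hconst : ∀ n : Z, (χ : G → ℂ) (y * n) = (χ : G → ℂ) y := fun n => by
    obtain ⟨x, hx⟩ := h n n.2
    rw [← hx]
    exact isClassFunction_irr χ y x
  rw [← hρ] at h0 hconst ⊢
  have hsum : ∑ n : Z, ρ.character (n : G) = 0 := by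
    simp only [classInner, map_one, mul_one] at h0
    exact (mul_eq_zero.1 h0).resolve_left (inv_ne_zero (Nat.cast_ne_zero.2 Nat.card_pos.ne'))
  have hc : (Fintype.card Z : ℂ) ≠ 0 := Nat.cast_ne_zero.2 Fintype.card_ne_zero
  set S : Module.End ℂ (Fin d → ℂ) := ∑ n : Z, ρ (n : G) with hS
  have hmul : ∀ m : Z, ρ (m : G) * S = S := fun m => by
    rw [hS, Finset.mul_sum]
    refine Fintype.sum_equiv (Equiv.mulLeft m) _ _ fun n => ?_
    rw [← map_mul]
    rfl
  set P : Module.End ℂ (Fin d → ℂ) := (Fintype.card Z : ℂ)⁻¹ • S with hP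
  have hidem : IsIdempotentElem P := by
    show P * P = P
    rw [hP, smul_mul_smul_comm]
    nth_rw 1 [hS]
    rw [Finset.sum_mul]
    simp only [hmul]
    rw [Finset.sum_const, Finset.card_univ, ← Nat.cast_smul_eq_nsmul ℂ, smul_smul, mul_assoc,
      inv_mul_cancel₀ hc, mul_one]
  have htr : LinearMap.trace ℂ _ P = 0 := by
    rw [hP, map_smul, hS, map_sum]
    show _ • ∑ n : Z, ρ.character (n : G) = 0
    rw [hsum, smul_zero]
  have hrange : Module.finrank ℂ (LinearMap.range P) = 0 := by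
    have := ((LinearMap.isProj_range_iff_isIdempotentElem P).2 hidem).trace
    rw [htr] at this
    exact_mod_cast this.symm
  have hP0 : P = 0 := LinearMap.range_eq_bot.1 (Submodule.finrank_eq_zero.1 hrange)
  have hS0 : S = 0 := (smul_eq_zero.1 (hP ▸ hP0)).resolve_left (inv_ne_zero hc)
  have h1 : ∑ n : Z, ρ.character (y * n) = 0 := by
    show ∑ n : Z, LinearMap.trace ℂ _ (ρ (y * n)) = 0
    rw [← map_sum]
    simp only [map_mul, ← Finset.mul_sum, ← hS, hS0, mul_zero, map_zero]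
  simp only [hconst, Finset.sum_const, Finset.card_univ, nsmul_eq_mul] at h1
  exact (mul_eq_zero.1 h1).resolve_left hc

theorem van_of_inertia (N : Subgroup G) [N.Normal] {θ : N → ℂ} (hθ : IsIrrCharacter N θ) (g : G)
    (h : ∀ x : G, x⁻¹ * g * x ∉ inertia N θ) : Van g := by
  classical
  haveI := Fintype.ofFinite G
  haveI := Fintype.ofFinite N
  set T := inertia N θ
  haveI := Fintype.ofFinite T
  obtain ⟨m, hm⟩ := exists_multiplicities (isCharacter_indFun N (isCharacter_of_isIrr hθ))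
  obtain ⟨χ, hχ⟩ : ∃ χ, m χ ≠ 0 := by
    by_contra! hall
    have h1 := congrFun hm 1
    simp only [indFun_one, hall, Nat.cast_zero, zero_smul, Finset.sum_const_zero,
      Pi.zero_apply] at h1
    rcases mul_eq_zero.mp h1 with e | e
    · exact N.index_ne_zero_of_finite (Nat.cast_eq_zero.mp e)
    · exact irr_degree_ne_zero hθ e
  have hcon : classInner (fun n : N => (χ : G → ℂ) n) θ ≠ 0 := by
    rw [← frobenius_reciprocity' N θ (isClassFunction_irr χ), ← classInner_conj_symm, hm,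
      classInner_sum_smul_irr]
    simpa using hχ
  obtain ⟨ψ, -, hψ, -⟩ := clifford_correspondence_surjective N T hθ (fun g => mem_inertia N)
    (le_inertia N (isClassFunction_of_isCharacter (isCharacter_of_isIrr hθ))) χ.2 hcon
  refine ⟨χ, ?_⟩
  rw [← hψ]
  show (Nat.card T : ℂ)⁻¹ * _ = 0
  rw [Finset.sum_eq_zero fun x _ => extendByZero_notMem T ψ (h x), mul_zero]

omit [Finite G] in
/-- A regular orbit. -/
theorem exists_regular {A D : Type*} [CommGroup A] [CommGroup D] [Finite D] {p : ℕ}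
    (f : A →* MulAut D) (hexp : ∀ a : A, a ^ p = 1) (hD : ∀ d : D, d ^ p = 1 → d = 1)
    (hf : ∀ a : A, a ≠ 1 → ∃ d, f a d ≠ d) : ∃ d : D, ∀ a : A, f a d = d → a = 1 := by
  classical
  suffices key : ∀ (n : ℕ) (S : Subgroup D), Nat.card S = n → (∀ a, ∀ d ∈ S, f a d ∈ S) →
      ∃ d ∈ S, ∀ a, f a d = d → ∀ s ∈ S, f a s = s by
    obtain ⟨d, -, hd⟩ := key _ ⊤ rfl fun _ _ _ => trivial
    refine ⟨d, fun a ha => ?_⟩
    by_contra h1
    obtain ⟨s, hs⟩ := hf a h1
    exact hs (hd a ha s trivial)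
  intro n
  induction n using Nat.strong_induction_on with
  | _ n ih => ?_
  intro S hn hS
  by_cases hcase : ∀ a, (∀ s ∈ S, f a s = s) ∨ ∀ s ∈ S, f a s = s → s = 1
  · by_cases hbot : S = ⊥
    · exact ⟨1, one_mem _, fun a _ s hs => by
        rw [hbot, Subgroup.mem_bot] at hs
        rw [hs, map_one]⟩
    obtain ⟨d, hd, hd1⟩ := (Subgroup.bot_or_exists_ne_one S).resolve_left hbot
    exact ⟨d, hd, fun a ha => (hcase a).resolve_right fun h => hd1 (h d hd ha)⟩
  push Not at hcase
  obtain ⟨a, ⟨s₁, hs₁, hm₁⟩, s₂, hs₂, hfix₂, hne₂⟩ := hcase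
  have hcm : ∀ b d, f b (f a d) = f a (f b d) := fun b d => by
    rw [← MulAut.mul_apply, ← map_mul, mul_comm, map_mul, MulAut.mul_apply]
  let δ : S →* S :=
    { toFun := fun s => ⟨f a s / s, div_mem (hS a s s.2) s.2⟩
      map_one' := Subtype.ext (by simp)
      map_mul' := fun s t => Subtype.ext (by simp [mul_div_mul_comm]) }
  have hδ : ∀ s : S, (δ s : D) = f a s / s := fun s => rfl
  set C := δ.ker.map S.subtype with hC
  set E := δ.range.map S.subtype with hE
  have hCle : C ≤ S := Subgroup.map_subtype_le _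
  have hEle : E ≤ S := Subgroup.map_subtype_le _
  have hmemC : ∀ d, d ∈ C ↔ d ∈ S ∧ f a d = d := fun d => by
    constructor
    · rintro ⟨s, hs, rfl⟩
      refine ⟨s.2, ?_⟩
      have := congrArg Subtype.val (MonoidHom.mem_ker.mp hs)
      rwa [hδ, OneMemClass.coe_one, div_eq_one] at this
    · rintro ⟨hd, hfd⟩
      refine ⟨⟨d, hd⟩, MonoidHom.mem_ker.mpr (Subtype.ext ?_), rfl⟩
      rw [hδ, OneMemClass.coe_one, div_eq_one]
      exact hfd
  have hCinv : ∀ b, ∀ d ∈ C, f b d ∈ C := fun b d hd => by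
    obtain ⟨h1, h2⟩ := (hmemC d).mp hd
    exact (hmemC _).mpr ⟨hS b d h1, by rw [← hcm, h2]⟩
  have hEinv : ∀ b, ∀ d ∈ E, f b d ∈ E := fun b d hd => by
    obtain ⟨t, ⟨s, rfl⟩, rfl⟩ := hd
    refine ⟨δ ⟨f b s, hS b s s.2⟩, ⟨_, rfl⟩, ?_⟩
    show f a (f b s) / f b s = f b (f a s / s)
    rw [map_div, hcm]
  have hdisj : C ⊓ E = ⊥ := by
    rw [eq_bot_iff]
    rintro e ⟨heC, t, ⟨s, rfl⟩, rfl⟩
    refine Subgroup.mem_bot.mpr (hD _ ?_)
    have hfe := ((hmemC _).mp heC).2
    set e := S.subtype (δ s) with he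
    have hs : f a (s : D) = (s : D) * e := (mul_div_cancel (s : D) _).symm
    have hk : ∀ k : ℕ, f (a ^ k) (s : D) = (s : D) * e ^ k := fun k => by
      induction k with
      | zero => simp
      | succ k ihk =>
        rw [pow_succ', map_mul, MulAut.mul_apply, ihk, map_mul, hs, map_pow, hfe, pow_succ',
          mul_assoc]
    have := hk p
    rw [hexp, map_one, MulAut.one_apply] at this
    exact mul_eq_left.mp this.symm
  have hcard : Nat.card C * Nat.card E = Nat.card S := by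
    rw [hC, hE, Subgroup.card_map_of_injective S.subtype_injective,
      Subgroup.card_map_of_injective S.subtype_injective, ← Subgroup.index_ker,
      Subgroup.card_mul_index]
  have hC1 : 1 < Nat.card C :=
    (Subgroup.one_lt_card_iff_ne_bot _).mpr fun h => hne₂
      (Subgroup.mem_bot.mp (h ▸ (hmemC s₂).mpr ⟨hs₂, hfix₂⟩))
  have hCS : C < S := lt_of_le_of_ne hCle fun h => hm₁ ((hmemC s₁).mp (h ▸ hs₁)).2
  have hEn : Nat.card E < n := by
    rw [← hn, ← hcard]
    exact lt_mul_left Nat.card_pos hC1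
  have hCn : Nat.card C < n := hn ▸ Set.ncard_lt_ncard hCS (Set.toFinite _)
  obtain ⟨c, hc, hcf⟩ := ih _ hCn C rfl hCinv
  obtain ⟨e, he, hef⟩ := ih _ hEn E rfl hEinv
  refine ⟨c * e, mul_mem (hCle hc) (hEle he), fun b hb => ?_⟩
  have h1 : f b c / c = e / f b e := by
    rw [map_mul] at hb
    rw [div_eq_div_iff_mul_eq_mul, hb, mul_comm]
  have h2 : f b c / c ∈ (C ⊓ E : Subgroup D) :=
    Subgroup.mem_inf.mpr ⟨C.div_mem (hCinv b c hc) hc, h1 ▸ E.div_mem he (hEinv b e he)⟩
  rw [hdisj, Subgroup.mem_bot] at h2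
  have hbc : f b c = c := div_eq_one.mp h2
  have hbe : f b e = e := by
    rw [h2] at h1
    exact (div_eq_one.mp h1.symm).symm
  intro s hs
  let μ : C × E → S := fun x => ⟨x.1 * x.2, mul_mem (hCle x.1.2) (hEle x.2.2)⟩
  have hμ : Function.Injective μ := by
    rintro ⟨u, v⟩ ⟨u', v'⟩ h
    have h' : (u : D) * v = u' * v' := congrArg Subtype.val h
    have h4 : (u : D) / u' = v' / v := by rw [div_eq_div_iff_mul_eq_mul, h', mul_comm]
    have h5 : (u : D) / u' ∈ (C ⊓ E : Subgroup D) :=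
      Subgroup.mem_inf.mpr ⟨C.div_mem u.2 u'.2, h4 ▸ E.div_mem v'.2 v.2⟩
    rw [hdisj, Subgroup.mem_bot] at h5
    have hu : (u : D) = u' := div_eq_one.mp h5
    rw [h5] at h4
    exact Prod.ext (Subtype.ext hu) (Subtype.ext (div_eq_one.mp h4.symm).symm)
  obtain ⟨⟨u, v⟩, huv⟩ := (hμ.bijective_of_nat_card_le (by rw [Nat.card_prod, hcard])).2 ⟨s, hs⟩
  have hs' : (u : D) * v = s := congrArg Subtype.val huv
  rw [← hs', map_mul, hcf b hbc u u.2, hef b hbe v v.2]

end CfsgLib.VanishSingular
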